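import Groth.Prelude.Def_SpSeq
import Mathlib.Algebra.Homology.QuasiIso
import Mathlib.Algebra.Homology.Additive
import Mathlib.CategoryTheory.Abelian.FunctorCategory
import Mathlib.CategoryTheory.Limits.FunctorCategory.Basic
import Mathlib.Algebra.Homology.ShortComplex.ExactFunctor
import Mathlib.Order.WithBot

/-!
# Diagrams of quotients of a filtered complex, complexes of functors
-/

set_option autoImplicit false
set_option linter.unusedSectionVars false

universe w v₁ u₁ v u

open CategoryTheory Limits SpSeq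

namespace Groth.Agent.H33.FilInj

/-! ### The index category `ℤ ∪ {∞}` -/

/-- The ordered set `ℤ ∪ {∞}` in an arbitrary universe. -/
inductive Idx : Type w
  | fin : ℤ → Idx
  | top : Idx

namespace Idx

/-- The underlying element of `WithTop ℤ`. -/
def toWT : Idx.{w} → WithTop ℤ
  | fin p => (p : WithTop ℤ)
  | top => ⊤

instance : Preorder Idx.{w} := Preorder.lift toWT

lemma le_def (a b : Idx.{w}) : a ≤ b ↔ a.toWT ≤ b.toWT := Iff.rfl

lemma fin_le_fin {p q : ℤ} : (fin p : Idx.{w}) ≤ fin q ↔ p ≤ q := by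
  rw [le_def]
  exact WithTop.coe_le_coe

lemma le_top (a : Idx.{w}) : a ≤ top := by
  rw [le_def]
  exact _root_.le_top

lemma not_top_le_fin (q : ℤ) : ¬ (top : Idx.{w}) ≤ fin q := by
  rw [le_def]
  exact WithTop.not_top_le_coe q

instance : Quiver.IsThin Idx.{w}ᵒᵖ := fun _ _ =>
  ⟨fun _ _ => Quiver.Hom.unop_inj (Subsingleton.elim _ _)⟩

/-- The morphism `op (fin q) ⟶ op (fin p)` for `p ≤ q`. -/
def finHom {p q : ℤ} (h : p ≤ q) : Opposite.op (fin q : Idx.{w}) ⟶ Opposite.op (fin p) :=
  (homOfLE (fin_le_fin.2 h)).op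

/-- The morphism `op top ⟶ op a`. -/
def topHom (a : Idx.{w}) : Opposite.op (top : Idx.{w}) ⟶ Opposite.op a :=
  (homOfLE (le_top a)).op

end Idx

/-! ### The functor of quotients by an antitone family of subobjects -/

section QuotFunctor

variable {𝒜 : Type u} [Category.{v} 𝒜] [Abelian 𝒜] {P : Type u₁} [Preorder P] {X : 𝒜}
  (F : P → Subobject X) (hF : Antitone F)

lemma arrow_π_of_le {S T : Subobject X} (h : S ≤ T) : S.arrow ≫ cokernel.π T.arrow = 0 := by
  rw [← Subobject.ofLE_arrow h, Category.assoc, cokernel.condition, comp_zero]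

/-- The functor `a ↦ X / F a`. -/
noncomputable def quotFunctor : Pᵒᵖ ⥤ 𝒜 where
  obj a := cokernel (F a.unop).arrow
  map {a b} f := cokernel.desc _ (cokernel.π (F b.unop).arrow) (arrow_π_of_le (hF (leOfHom f.unop)))
  map_id a := by
    rw [← cancel_epi (cokernel.π _)]
    simp
  map_comp f g := by
    rw [← cancel_epi (cokernel.π _)]
    simp

@[simp]
lemma quotFunctor_obj (a : Pᵒᵖ) : (quotFunctor F hF).obj a = cokernel (F a.unop).arrow := rfl

@[reassoc (attr := simp)]
lemma π_quotFunctor_map {a b : Pᵒᵖ} (f : a ⟶ b) :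
    cokernel.π (F a.unop).arrow ≫ (quotFunctor F hF).map f = cokernel.π (F b.unop).arrow :=
  cokernel.π_desc _ _ _

end QuotFunctor

/-! ### Complexes of functors -/

section CxFunctor

variable {D : Type u₁} [Category.{v₁} D] {A : Type u} [Category.{v} A] [Abelian A]

/-- The complex of functors attached to a functor to complexes. -/
noncomputable def cxOfFunctor (M : D ⥤ CochainComplex A ℤ) : CochainComplex (D ⥤ A) ℤ where
  X n := M ⋙ HomologicalComplex.eval A (ComplexShape.up ℤ) n
  d n m :=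
    { app := fun a => (M.obj a).d n m
      naturality := fun _ _ f => (M.map f).comm n m }
  shape n m h := by
    ext a
    exact (M.obj a).shape n m h
  d_comp_d' n m k _ _ := by
    ext a
    exact (M.obj a).d_comp_d n m k

/-- Evaluation of a complex of functors at an object. -/
noncomputable abbrev evCx (I : CochainComplex (D ⥤ A) ℤ) (a : D) : CochainComplex A ℤ :=
  (((evaluation D A).obj a).mapHomologicalComplex (ComplexShape.up ℤ)).obj I

/-- The transition maps of a complex of functors. -/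
noncomputable def resCx (I : CochainComplex (D ⥤ A) ℤ) {a b : D} (f : a ⟶ b) :
    evCx I a ⟶ evCx I b where
  f n := (I.X n).map f
  comm' n m _ := (I.d n m).naturality f

@[simp]
lemma resCx_f (I : CochainComplex (D ⥤ A) ℤ) {a b : D} (f : a ⟶ b) (n : ℤ) :
    (resCx I f).f n = (I.X n).map f := rfl

lemma resCx_comp (I : CochainComplex (D ⥤ A) ℤ) {a b c : D} (f : a ⟶ b) (g : b ⟶ c) :
    resCx I (f ≫ g) = resCx I f ≫ resCx I g := by
  ext n
  exact (I.X n).map_comp f g

/-- Evaluation of a morphism of complexes of functors. -/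
noncomputable abbrev evMap {I I' : CochainComplex (D ⥤ A) ℤ} (φ : I ⟶ I') (a : D) :
    evCx I a ⟶ evCx I' a :=
  (((evaluation D A).obj a).mapHomologicalComplex (ComplexShape.up ℤ)).map φ

@[reassoc]
lemma evMap_resCx {I I' : CochainComplex (D ⥤ A) ℤ} (φ : I ⟶ I') {a b : D} (f : a ⟶ b) :
    evMap φ a ≫ resCx I' f = resCx I f ≫ evMap φ b := by
  ext n
  exact ((φ.f n).naturality f).symm

instance (a : D) : PreservesFiniteLimits ((evaluation D A).obj a) :=
  ⟨fun _ _ _ => inferInstance⟩

instance (a : D) : PreservesFiniteColimits ((evaluation D A).obj a) :=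
  ⟨fun _ _ _ => inferInstance⟩

lemma quasiIso_evMap {I I' : CochainComplex (D ⥤ A) ℤ} (φ : I ⟶ I') [QuasiIso φ] (a : D) :
    QuasiIso (evMap φ a) :=
  inferInstance

/-- Evaluating the complex of functors attached to a functor to complexes. -/
noncomputable def evCxOfFunctorIso (M : D ⥤ CochainComplex A ℤ) (a : D) :
    evCx (cxOfFunctor M) a ≅ M.obj a :=
  HomologicalComplex.Hom.isoOfComponents (fun n => Iso.refl _) (fun n m _ => by
    show 𝟙 _ ≫ (M.obj a).d n m = (M.obj a).d n m ≫ 𝟙 _
    rw [Category.id_comp, Category.comp_id])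

@[simp]
lemma evCxOfFunctorIso_hom_f (M : D ⥤ CochainComplex A ℤ) (a : D) (n : ℤ) :
    (evCxOfFunctorIso M a).hom.f n = 𝟙 _ := rfl

@[simp]
lemma evCxOfFunctorIso_inv_f (M : D ⥤ CochainComplex A ℤ) (a : D) (n : ℤ) :
    (evCxOfFunctorIso M a).inv.f n = 𝟙 _ := rfl

@[reassoc]
lemma evCxOfFunctorIso_hom_naturality (M : D ⥤ CochainComplex A ℤ) {a b : D} (f : a ⟶ b) :
    (evCxOfFunctorIso M a).hom ≫ M.map f = resCx (cxOfFunctor M) f ≫
      (evCxOfFunctorIso M b).hom := by
  ext n
  show 𝟙 _ ≫ (M.map f).f n = (M.map f).f n ≫ 𝟙 _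
  rw [Category.id_comp, Category.comp_id]

end CxFunctor

end Groth.Agent.H33.FilInj
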