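import Groth.Agent.H33.KInjAdj
import Mathlib.CategoryTheory.Adjunction.Evaluation
import Mathlib.CategoryTheory.Adjunction.Additive
import Mathlib.CategoryTheory.Abelian.FunctorCategory
import Mathlib.CategoryTheory.Preadditive.Injective.Basic

/-!
# Evaluation functors on functor categories over a thin category

For a thin category `D` and an abelian category `A` with coproducts, the left adjoint of the
evaluation functor `(D ⥤ A) ⥤ A` is exact.  Hence evaluation preserves injective objects and
K-injective complexes, and an injective functor has split epimorphic transition maps.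
-/

set_option autoImplicit false
set_option linter.unusedSectionVars false

universe v₁ u₁ v u

open CategoryTheory Limits

namespace Groth.Agent.H33.FilInj

section Coprod

variable {A : Type u} [Category.{v} A]

lemma isZero_sigma_of_isEmpty [HasZeroMorphisms A]
    {α : Type*} [IsEmpty α] (X : A) [HasCoproduct (fun _ : α => X)] :
    IsZero (∐ fun _ : α => X) := by
  rw [IsZero.iff_id_eq_zero]
  exact Sigma.hom_ext _ _ (fun a => isEmptyElim a)

lemma isIso_sigma_ι_of_subsingleton {α : Type*} [Subsingleton α] (X : A)
    [HasCoproduct (fun _ : α => X)] (a : α) : IsIso (Sigma.ι (fun _ : α => X) a) := by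
  refine ⟨Sigma.desc (fun _ => 𝟙 X), by simp, ?_⟩
  refine Sigma.hom_ext _ _ (fun b => ?_)
  obtain rfl := Subsingleton.elim a b
  simp

end Coprod

section

variable {D : Type u₁} [Category.{v₁} D] [Quiver.IsThin D]
  {A : Type u} [Category.{v} A] [Abelian A] [∀ a b : D, HasCoproductsOfShape (a ⟶ b) A]

set_option backward.isDefEq.respectTransparency false in
/-- For `f : a ⟶ t`, the composition of the left adjoint of evaluation at `a` with the
evaluation at `t` is the identity functor. -/
noncomputable def evalLeftAdjointCompEvalIso {a t : D} (f : a ⟶ t) :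
    𝟭 A ≅ evaluationLeftAdjoint A a ⋙ (evaluation D A).obj t :=
  NatIso.ofComponents
    (fun X => @asIso _ _ _ _ (Sigma.ι (fun _ : a ⟶ t => X) f)
      (isIso_sigma_ι_of_subsingleton X f))
    (fun {X Y} φ => by
      show φ ≫ Sigma.ι (fun _ : a ⟶ t => Y) f =
        Sigma.ι (fun _ : a ⟶ t => X) f ≫ Sigma.desc fun h => φ ≫ Sigma.ι (fun _ => Y) h
      simp)

omit [Quiver.IsThin D] in
lemma isZero_evalLeftAdjoint_obj_obj {a t : D} (h : IsEmpty (a ⟶ t)) (X : A) :
    IsZero (((evaluationLeftAdjoint A a).obj X).obj t) :=
  isZero_sigma_of_isEmpty X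

/-- A functor all of whose values are zero preserves limits. -/
lemma preservesLimitsOfShape_of_isZero {B : Type*} [Category B] [HasZeroMorphisms B]
    {B' : Type*} [Category B']
    (F : B' ⥤ B) (hF : ∀ X, IsZero (F.obj X)) (J : Type*) [Category J] :
    PreservesLimitsOfShape J F where
  preservesLimit := ⟨fun _ => ⟨{
    lift := fun _ => 0
    fac := fun _ _ => (hF _).eq_of_tgt _ _
    uniq := fun _ _ _ => (hF _).eq_of_tgt _ _ }⟩⟩

instance preservesFiniteLimits_evaluationLeftAdjoint (a : D) :
    PreservesFiniteLimits (evaluationLeftAdjoint A a) := by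
  classical
  refine ⟨fun J _ _ => preservesLimitsOfShape_of_evaluation _ J (fun t => ?_)⟩
  by_cases h : Nonempty (a ⟶ t)
  · obtain ⟨f⟩ := h
    exact preservesLimitsOfShape_of_natIso (evalLeftAdjointCompEvalIso f)
  · rw [not_nonempty_iff] at h
    exact preservesLimitsOfShape_of_isZero _ (fun X => isZero_evalLeftAdjoint_obj_obj h X) J

instance preservesFiniteColimits_evaluationLeftAdjoint (a : D) :
    PreservesFiniteColimits (evaluationLeftAdjoint A a) := by
  have := (evaluationAdjunctionRight A a).leftAdjoint_preservesColimits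
  infer_instance

instance additive_evaluationLeftAdjoint (a : D) : (evaluationLeftAdjoint A a).Additive :=
  (evaluationAdjunctionRight A a).left_adjoint_additive

/-- Evaluation preserves injective objects. -/
lemma injective_obj (E : D ⥤ A) [Injective E] (a : D) : Injective (E.obj a) :=
  Injective.injective_of_adjoint (evaluationAdjunctionRight A a) E

/-- Evaluation preserves K-injective complexes. -/
lemma isKInjective_eval (I : CochainComplex (D ⥤ A) ℤ) [I.IsKInjective] (a : D) :
    CochainComplex.IsKInjective
      ((((evaluation D A).obj a).mapHomologicalComplex (ComplexShape.up ℤ)).obj I) :=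
  KInjAdj.isKInjective_map (evaluationAdjunctionRight A a) I

set_option backward.isDefEq.respectTransparency false in
/-- The map `L_b X ⟶ L_a X` induced by `f : a ⟶ b`. -/
noncomputable def evalLeftAdjointMap {a b : D} (f : a ⟶ b) (X : A) :
    (evaluationLeftAdjoint A b).obj X ⟶ (evaluationLeftAdjoint A a).obj X where
  app t := Sigma.desc (fun g => Sigma.ι (fun _ : a ⟶ t => X) (f ≫ g))
  naturality {t t'} k := by
    apply Sigma.hom_ext
    intro g
    simp

omit [Quiver.IsThin D] in
set_option backward.isDefEq.respectTransparency false in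
lemma evalLeftAdjointMap_app {a b t : D} (f : a ⟶ b) (g : b ⟶ t) (X : A) :
    Sigma.ι (fun _ : b ⟶ t => X) g ≫ (evalLeftAdjointMap f X).app t =
      Sigma.ι (fun _ : a ⟶ t => X) (f ≫ g) := by
  simp [evalLeftAdjointMap]

set_option backward.isDefEq.respectTransparency false in
instance mono_evalLeftAdjointMap {a b : D} (f : a ⟶ b) (X : A) :
    Mono (evalLeftAdjointMap f X) := by
  classical
  rw [NatTrans.mono_iff_mono_app']
  intro t
  by_cases h : Nonempty (b ⟶ t)
  · obtain ⟨g⟩ := h
    have h1 := isIso_sigma_ι_of_subsingleton X g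
    have h2 := isIso_sigma_ι_of_subsingleton X (f ≫ g)
    have : (evalLeftAdjointMap f X).app t =
        inv (Sigma.ι (fun _ : b ⟶ t => X) g) ≫ Sigma.ι (fun _ : a ⟶ t => X) (f ≫ g) := by
      rw [← evalLeftAdjointMap_app f g X, IsIso.inv_hom_id_assoc]
    rw [this]
    infer_instance
  · rw [not_nonempty_iff] at h
    exact ⟨fun _ _ _ => (isZero_evalLeftAdjoint_obj_obj h X).eq_of_tgt _ _⟩

set_option backward.isDefEq.respectTransparency false in
/-- The transition maps of an injective functor on a thin category are split epimorphisms. -/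
lemma exists_section_of_injective (E : D ⥤ A) [Injective E] {a b : D} (f : a ⟶ b) :
    ∃ s : E.obj b ⟶ E.obj a, s ≫ E.map f = 𝟙 _ := by
  let adjb := evaluationAdjunctionRight A b
  let adja := evaluationAdjunctionRight A a
  let φ : (evaluationLeftAdjoint A b).obj (E.obj b) ⟶ E := (adjb.homEquiv _ _).symm (𝟙 _)
  obtain ⟨ψ, hψ⟩ : ∃ ψ : (evaluationLeftAdjoint A a).obj (E.obj b) ⟶ E,
      evalLeftAdjointMap f (E.obj b) ≫ ψ = φ :=
    ⟨Injective.factorThru φ (evalLeftAdjointMap f (E.obj b)), Injective.comp_factorThru _ _⟩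
  refine ⟨adja.homEquiv _ _ ψ, ?_⟩
  have h1 : adjb.homEquiv _ _ φ = 𝟙 _ := Equiv.apply_symm_apply _ _
  rw [← h1, ← hψ]
  simp only [adja, adjb, Adjunction.homEquiv_unit, evaluationAdjunctionRight_unit_app,
    evaluation_obj_map, NatTrans.comp_app, Category.assoc]
  have e1 : ψ.app a ≫ E.map f =
      ((evaluationLeftAdjoint A a).obj (E.obj b)).map f ≫ ψ.app b := (ψ.naturality f).symm
  have e2 : Sigma.ι (fun _ : a ⟶ a => E.obj b) (𝟙 a) ≫
      ((evaluationLeftAdjoint A a).obj (E.obj b)).map f =
        Sigma.ι (fun _ : a ⟶ b => E.obj b) (𝟙 a ≫ f) := by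
    simp
  have e3 := evalLeftAdjointMap_app f (𝟙 b) (E.obj b)
  rw [e1, reassoc_of% e2, reassoc_of% e3]

end

end Groth.Agent.H33.FilInj
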