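import Groth.Prelude.Def_SpSeq
import Mathlib.CategoryTheory.Limits.Preserves.Shapes.Kernels
import Mathlib.Algebra.Homology.HomologicalComplexLimits

/-!
# The filtered objects `K.XFil n` of a filtered complex in terms of the complexes `F^p K`
-/

set_option autoImplicit false
set_option linter.unusedSectionVars false

universe v u

open CategoryTheory Limits SpSeq

namespace Groth.Agent.H33.FilInj

variable {A : Type u} [Category.{v} A] [Abelian A] (J : FilCx A) (n : ℤ)

/-- `F^p (J^n) ≅ (F^p J)^n`. -/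
noncomputable def xFilStepIso (p : ℤ) : (J.XFil n).step p ≅ (J.step p).X n :=
  Subobject.underlyingIso ((J.fil p).arrow.f n)

@[reassoc (attr := simp)]
lemma xFilStepIso_hom_arrow (p : ℤ) :
    (xFilStepIso J n p).hom ≫ (J.fil p).arrow.f n = ((J.XFil n).fil p).arrow :=
  Subobject.underlyingIso_hom_comp_eq_mk _

@[reassoc]
lemma xFilStepIso_stepLE {p p' : ℤ} (h : p ≤ p') :
    (J.XFil n).stepLE h ≫ (xFilStepIso J n p).hom =
      (xFilStepIso J n p').hom ≫ (J.stepLE h).f n := by
  rw [← cancel_mono ((J.fil p).arrow.f n), Category.assoc, Category.assoc,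
    xFilStepIso_hom_arrow, ← HomologicalComplex.comp_f, Subobject.ofLE_arrow,
    xFilStepIso_hom_arrow]
  exact Subobject.ofLE_arrow _

/-- `J^n / F^p (J^n) ≅ (J / F^p J)^n`. -/
noncomputable def xFilQuotIso (p : ℤ) : (J.XFil n).quot p ≅ (J.quot p).X n :=
  cokernel.mapIso _ _ (xFilStepIso J n p) (Iso.refl _)
    (by rw [Iso.refl_hom, Category.comp_id]; exact (xFilStepIso_hom_arrow J n p).symm) ≪≫
    (PreservesCokernel.iso (HomologicalComplex.eval A (ComplexShape.up ℤ) n)
      (J.fil p).arrow).symm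

/-- `F^p (J^n) / F^{p'} (J^n) ≅ (F^p J / F^{p'} J)^n`. -/
noncomputable def xFilGrIso {p p' : ℤ} (h : p ≤ p') :
    cokernel ((J.XFil n).stepLE h) ≅ (cokernel (J.stepLE h)).X n :=
  cokernel.mapIso _ _ (xFilStepIso J n p') (xFilStepIso J n p) (xFilStepIso_stepLE J n h) ≪≫
    (PreservesCokernel.iso (HomologicalComplex.eval A (ComplexShape.up ℤ) n)
      (J.stepLE h)).symm

end Groth.Agent.H33.FilInj
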