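import Groth.Prelude.Def_SpSeq
import Groth.Agent.H6.InjHorseshoe
import Mathlib.Algebra.Homology.HomologySequenceLemmas
import Mathlib.CategoryTheory.Limits.Preserves.Shapes.Kernels

/-!
# Morphisms of filtered objects: induced maps on steps, quotients and graded pieces
-/

set_option autoImplicit false
set_option linter.unusedSectionVars false

universe v u

open CategoryTheory Limits SpSeq

namespace Groth.Agent.H33.FilInj

section FilObj

variable {𝒜 : Type u} [Category.{v} 𝒜] [Abelian 𝒜] {K J : FilObj 𝒜} (j : K ⟶ J)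

/-- The map induced on the steps of the filtrations. -/
noncomputable def stepMap (p : ℤ) : K.step p ⟶ J.step p :=
  (K.fil p).ofLE _ (j.compat p) ≫ Subobject.pullbackπ j.hom (J.fil p)

@[reassoc (attr := simp)]
lemma stepMap_arrow (p : ℤ) : stepMap j p ≫ (J.fil p).arrow = (K.fil p).arrow ≫ j.hom := by
  rw [stepMap, Category.assoc, (Subobject.isPullback j.hom (J.fil p)).w,
    Subobject.ofLE_arrow_assoc]

@[reassoc]
lemma stepMap_stepLE {p p' : ℤ} (h : p ≤ p') :
    stepMap j p' ≫ J.stepLE h = K.stepLE h ≫ stepMap j p := by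
  rw [← cancel_mono (J.fil p).arrow, Category.assoc, Category.assoc, stepMap_arrow,
    Subobject.ofLE_arrow, stepMap_arrow, Subobject.ofLE_arrow_assoc]

lemma stepMap_unique (p : ℤ) (φ : K.step p ⟶ J.step p)
    (h : φ ≫ (J.fil p).arrow = (K.fil p).arrow ≫ j.hom) : φ = stepMap j p := by
  rw [← cancel_mono (J.fil p).arrow, h, stepMap_arrow]

/-- The map induced on the quotients. -/
noncomputable def quotMapOf (p : ℤ) : K.quot p ⟶ J.quot p :=
  cokernel.map _ _ (stepMap j p) j.hom (stepMap_arrow j p).symm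

@[reassoc (attr := simp)]
lemma π_quotMapOf (p : ℤ) :
    cokernel.π (K.fil p).arrow ≫ quotMapOf j p = j.hom ≫ cokernel.π (J.fil p).arrow :=
  cokernel.π_desc _ _ _

lemma quotMapOf_unique (p : ℤ) (φ : K.quot p ⟶ J.quot p)
    (h : cokernel.π (K.fil p).arrow ≫ φ = j.hom ≫ cokernel.π (J.fil p).arrow) :
    φ = quotMapOf j p := by
  rw [← cancel_epi (cokernel.π (K.fil p).arrow), h, π_quotMapOf]

/-- The map induced on the subquotients. -/
noncomputable def grMapOf {p p' : ℤ} (h : p ≤ p') :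
    cokernel (K.stepLE h) ⟶ cokernel (J.stepLE h) :=
  cokernel.map _ _ (stepMap j p') (stepMap j p) (stepMap_stepLE j h).symm

@[reassoc (attr := simp)]
lemma π_grMapOf {p p' : ℤ} (h : p ≤ p') :
    cokernel.π (K.stepLE h) ≫ grMapOf j h = stepMap j p ≫ cokernel.π (J.stepLE h) :=
  cokernel.π_desc _ _ _

variable (K)

/-- The short complex `F^p ⟶ X ⟶ X / F^p`. -/
noncomputable abbrev scQuot (p : ℤ) : ShortComplex 𝒜 :=
  ShortComplex.mk (K.fil p).arrow (cokernel.π (K.fil p).arrow) (cokernel.condition _)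

lemma scQuot_shortExact (p : ℤ) : (scQuot K p).ShortExact where
  exact := ShortComplex.exact_cokernel _

/-- The short complex `F^{p'} ⟶ F^p ⟶ F^p / F^{p'}`. -/
noncomputable abbrev scGr {p p' : ℤ} (h : p ≤ p') : ShortComplex 𝒜 :=
  ShortComplex.mk (K.stepLE h) (cokernel.π (K.stepLE h)) (cokernel.condition _)

lemma scGr_shortExact {p p' : ℤ} (h : p ≤ p') : (scGr K h).ShortExact where
  exact := ShortComplex.exact_cokernel _

variable {K}

/-- The morphism of short complexes induced by a morphism of filtered objects. -/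
noncomputable def scQuotMap (p : ℤ) : scQuot K p ⟶ scQuot J p where
  τ₁ := stepMap j p
  τ₂ := j.hom
  τ₃ := quotMapOf j p
  comm₁₂ := stepMap_arrow j p
  comm₂₃ := (π_quotMapOf j p).symm

/-- The morphism of short complexes induced by a morphism of filtered objects. -/
noncomputable def scGrMap {p p' : ℤ} (h : p ≤ p') : scGr K h ⟶ scGr J h where
  τ₁ := stepMap j p'
  τ₂ := stepMap j p
  τ₃ := grMapOf j h
  comm₁₂ := stepMap_stepLE j h
  comm₂₃ := (π_grMapOf j h).symm

end FilObj

section FilCx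

variable {A : Type u} [Category.{v} A] [Abelian A] {K J : FilCx A} (j : K ⟶ J)

lemma quasiIso_stepMap (hj : QuasiIso j.hom) (p : ℤ) (hq : QuasiIso (quotMapOf j p)) :
    QuasiIso (stepMap j p) :=
  Groth.Agent.H6.quasiIso_τ₁_of_shortExact (scQuotMap j p) (scQuot_shortExact K p)
    (scQuot_shortExact J p) hj hq

lemma quasiIso_grMapOf {p p' : ℤ} (h : p ≤ p') (h₁ : QuasiIso (stepMap j p'))
    (h₂ : QuasiIso (stepMap j p)) : QuasiIso (grMapOf j h) :=
  HomologicalComplex.HomologySequence.quasiIso_τ₃ (scGrMap j h) (scGr_shortExact K h)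
    (scGr_shortExact J h) h₁ h₂

/-- If `j` and the maps induced on the quotients `K / F^p ⟶ J / F^p` are quasi-isomorphisms, then
so are all the maps induced on the steps and on the subquotients. -/
theorem filtered_quasiIso_of_quot (hj : QuasiIso j.hom)
    (hq : ∀ p : ℤ, QuasiIso (quotMapOf j p)) :
    (∀ p : ℤ, ∃ jp : K.step p ⟶ J.step p,
      jp ≫ (J.fil p).arrow = (K.fil p).arrow ≫ j.hom ∧ QuasiIso jp ∧
        (∀ (p' : ℤ) (h : p ≤ p'), ∃ (jp' : K.step p' ⟶ J.step p')
          (jg : cokernel (K.stepLE h) ⟶ cokernel (J.stepLE h)),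
          jp' ≫ (J.fil p').arrow = (K.fil p').arrow ≫ j.hom ∧
          jp' ≫ J.stepLE h = K.stepLE h ≫ jp ∧
          cokernel.π (K.stepLE h) ≫ jg = jp ≫ cokernel.π (J.stepLE h) ∧ QuasiIso jg)) ∧
    (∀ p : ℤ, ∃ jq : K.quot p ⟶ J.quot p,
      cokernel.π (K.fil p).arrow ≫ jq = j.hom ≫ cokernel.π (J.fil p).arrow ∧ QuasiIso jq) := by
  have hs : ∀ p, QuasiIso (stepMap j p) := fun p => quasiIso_stepMap j hj p (hq p)
  refine ⟨fun p => ⟨stepMap j p, stepMap_arrow j p, hs p, fun p' h =>
    ⟨stepMap j p', grMapOf j h, stepMap_arrow j p', stepMap_stepLE j h, π_grMapOf j h,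
      quasiIso_grMapOf j h (hs p') (hs p)⟩⟩, fun p => ⟨quotMapOf j p, π_quotMapOf j p, hq p⟩⟩

end FilCx

end Groth.Agent.H33.FilInj
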