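import Mathlib.CategoryTheory.Abelian.GrothendieckCategory.Basic
import Mathlib.CategoryTheory.Abelian.GrothendieckAxioms.FunctorCategory
import Mathlib.CategoryTheory.Generator.Presheaf
import Mathlib.CategoryTheory.Abelian.FunctorCategory

/-!
# Presheaf categories with values in a Grothendieck abelian category are Grothendieck abelian
-/

set_option autoImplicit false

universe v u

open CategoryTheory Limits

namespace Groth.Agent.H33.FilInj

variable (C : Type v) [SmallCategory C] (A : Type u) [Category.{v} A] [Abelian A]
  [IsGrothendieckAbelian.{v} A]

instance isGrothendieckAbelian_presheaf : IsGrothendieckAbelian.{v} (Cᵒᵖ ⥤ A) where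
  locallySmall := inferInstance
  hasFilteredColimitsOfSize := ⟨fun _ _ _ => inferInstance⟩
  ab5OfSize := ⟨fun _ _ _ => inferInstance⟩
  hasSeparator := inferInstance

end Groth.Agent.H33.FilInj
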