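import Groth.Prelude.Def_SpSeq
import Mathlib.CategoryTheory.Abelian.Refinements
import Mathlib.Algebra.Homology.ShortComplex.ShortExact

/-!
# Filtered objects from a system of quotients

Given an object `X` of an abelian category and epimorphisms `π p : X ⟶ Q p` (`p : ℤ`) with
`π p' ≫ ρ = π p` for `p ≤ p'`, we define the filtered object with `F^p X = ker (π p)` and
identify its steps, quotients, and subquotients.
-/

set_option autoImplicit false
set_option linter.unusedSectionVars false

universe v u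

open CategoryTheory Limits

namespace Groth.Agent.H33.FilInj

variable {𝒜 : Type u} [Category.{v} 𝒜] [Abelian 𝒜]

/-- For a short exact short complex, the cokernel of the first map is the third object. -/
noncomputable def cokerIso {S : ShortComplex 𝒜} (hS : S.ShortExact) : cokernel S.f ≅ S.X₃ :=
  IsColimit.coconePointUniqueUpToIso (colimit.isColimit _) hS.gIsCokernel

@[reassoc (attr := simp)]
lemma cokernel_π_cokerIso_hom {S : ShortComplex 𝒜} (hS : S.ShortExact) :
    cokernel.π S.f ≫ (cokerIso hS).hom = S.g :=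
  IsColimit.comp_coconePointUniqueUpToIso_hom (colimit.isColimit _) hS.gIsCokernel
    WalkingParallelPair.one

@[reassoc (attr := simp)]
lemma g_cokerIso_inv {S : ShortComplex 𝒜} (hS : S.ShortExact) :
    S.g ≫ (cokerIso hS).inv = cokernel.π S.f := by
  rw [← cokernel_π_cokerIso_hom hS, Category.assoc, Iso.hom_inv_id, Category.comp_id]

/-- A system of quotients of `X` indexed by `ℤ`. -/
structure QuotSystem (X : 𝒜) where
  Q : ℤ → 𝒜
  π : ∀ p, X ⟶ Q p
  epi_π : ∀ p, Epi (π p)
  ρ : ∀ {p p' : ℤ}, p ≤ p' → (Q p' ⟶ Q p)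
  π_ρ : ∀ {p p' : ℤ} (h : p ≤ p'), π p' ≫ ρ h = π p

namespace QuotSystem

variable {X : 𝒜} (s : QuotSystem X)

attribute [instance] epi_π
attribute [reassoc (attr := simp)] π_ρ

/-- The filtered object attached to a system of quotients. -/
noncomputable abbrev filObj : SpSeq.FilObj 𝒜 where
  obj := X
  fil p := kernelSubobject (s.π p)
  anti := fun p p' h => by
    show kernelSubobject (s.π p') ≤ kernelSubobject (s.π p)
    rw [← s.π_ρ h]
    exact kernelSubobject_comp_le _ _

lemma filObj_fil (p : ℤ) : s.filObj.fil p = kernelSubobject (s.π p) := rfl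

/-- The short complex `F^p ⟶ X ⟶ Q p`. -/
noncomputable abbrev sc (p : ℤ) : ShortComplex 𝒜 :=
  ShortComplex.mk (s.filObj.fil p).arrow (s.π p) (kernelSubobject_arrow_comp _)

lemma sc_shortExact (p : ℤ) : (s.sc p).ShortExact where
  exact := by
    rw [ShortComplex.exact_iff_exact_up_to_refinements]
    intro T (x₂ : T ⟶ X) (hx₂ : x₂ ≫ s.π p = 0)
    refine ⟨T, 𝟙 T, inferInstance, factorThruKernelSubobject (s.π p) x₂ hx₂, ?_⟩
    show 𝟙 T ≫ x₂ = factorThruKernelSubobject (s.π p) x₂ hx₂ ≫ (kernelSubobject (s.π p)).arrow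
    rw [factorThruKernelSubobject_comp_arrow, Category.id_comp]
  mono_f := by dsimp; infer_instance
  epi_g := by dsimp; infer_instance

/-- `X / F^p ≅ Q p`. -/
noncomputable def quotIso (p : ℤ) : s.filObj.quot p ≅ s.Q p :=
  cokerIso (s.sc_shortExact p)

@[reassoc (attr := simp)]
lemma π_quotIso_hom (p : ℤ) :
    cokernel.π (s.filObj.fil p).arrow ≫ (s.quotIso p).hom = s.π p :=
  cokernel_π_cokerIso_hom (s.sc_shortExact p)

@[reassoc (attr := simp)]
lemma π_quotIso_inv (p : ℤ) :
    s.π p ≫ (s.quotIso p).inv = cokernel.π (s.filObj.fil p).arrow :=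
  g_cokerIso_inv (s.sc_shortExact p)

/-- `F^p ≅ ker (π p)`. -/
noncomputable def stepIso (p : ℤ) : s.filObj.step p ≅ kernel (s.π p) :=
  kernelSubobjectIso (s.π p)

@[reassoc (attr := simp)]
lemma stepIso_hom_ι (p : ℤ) :
    (s.stepIso p).hom ≫ kernel.ι (s.π p) = (s.filObj.fil p).arrow :=
  kernelSubobject_arrow (s.π p)

section

variable {p p' : ℤ} (h : p ≤ p')

/-- The map `F^p ⟶ ker (Q p' ⟶ Q p)`. -/
noncomputable def toKerρ : s.filObj.step p ⟶ kernel (s.ρ h) :=
  kernel.lift _ ((s.filObj.fil p).arrow ≫ s.π p') (by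
    rw [Category.assoc, s.π_ρ h]
    exact kernelSubobject_arrow_comp _)

@[reassoc (attr := simp)]
lemma toKerρ_ι : s.toKerρ h ≫ kernel.ι (s.ρ h) = (s.filObj.fil p).arrow ≫ s.π p' :=
  kernel.lift_ι _ _ _

/-- The short complex `F^{p'} ⟶ F^p ⟶ ker (Q p' ⟶ Q p)`. -/
noncomputable abbrev sc' : ShortComplex 𝒜 :=
  ShortComplex.mk (s.filObj.stepLE h) (s.toKerρ h) (by
    rw [← cancel_mono (kernel.ι (s.ρ h)), Category.assoc, toKerρ_ι, zero_comp,
      Subobject.ofLE_arrow_assoc]
    exact kernelSubobject_arrow_comp _)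

lemma sc'_shortExact : (s.sc' h).ShortExact where
  exact := by
    rw [ShortComplex.exact_iff_exact_up_to_refinements]
    intro T (x₂ : T ⟶ s.filObj.step p) (hx₂ : x₂ ≫ s.toKerρ h = 0)
    have h0 : (x₂ ≫ (s.filObj.fil p).arrow) ≫ s.π p' = 0 := by
      have := hx₂ =≫ kernel.ι (s.ρ h)
      rw [Category.assoc, toKerρ_ι, zero_comp] at this
      rw [Category.assoc]
      exact this
    refine ⟨T, 𝟙 T, inferInstance, factorThruKernelSubobject (s.π p') _ h0, ?_⟩
    show 𝟙 T ≫ x₂ = factorThruKernelSubobject (s.π p') _ h0 ≫ s.filObj.stepLE h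
    rw [← cancel_mono (s.filObj.fil p).arrow, Category.assoc, Category.assoc,
      Category.id_comp]
    erw [Subobject.ofLE_arrow]
    exact (factorThruKernelSubobject_comp_arrow _ _ _).symm
  mono_f := by dsimp; infer_instance
  epi_g := by
    rw [epi_iff_surjective_up_to_refinements]
    intro T (y : T ⟶ kernel (s.ρ h))
    obtain ⟨T', e, he, x₀, hx₀⟩ :=
      surjective_up_to_refinements_of_epi (s.π p') (y ≫ kernel.ι (s.ρ h))
    have h0 : x₀ ≫ s.π p = 0 := by
      rw [← s.π_ρ h, ← reassoc_of% hx₀]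
      simp
    refine ⟨T', e, he, factorThruKernelSubobject (s.π p) x₀ h0, ?_⟩
    show e ≫ y = factorThruKernelSubobject (s.π p) x₀ h0 ≫ s.toKerρ h
    rw [← cancel_mono (kernel.ι (s.ρ h)), Category.assoc, Category.assoc, toKerρ_ι, hx₀]
    rw [← Category.assoc]
    congr 1
    exact (factorThruKernelSubobject_comp_arrow _ _ _).symm

/-- `F^p / F^{p'} ≅ ker (Q p' ⟶ Q p)`. -/
noncomputable def grIso : cokernel (s.filObj.stepLE h) ≅ kernel (s.ρ h) :=
  cokerIso (s.sc'_shortExact h)

end

end QuotSystem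

end Groth.Agent.H33.FilInj
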