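import Mathlib.Algebra.Homology.HomotopyCategory.KInjective
import Mathlib.Algebra.Homology.HomotopyCategory.DegreewiseSplit
import Mathlib.Algebra.Homology.HomologicalComplexAbelian
import Mathlib.CategoryTheory.Triangulated.Orthogonal

/-!
# The kernel of a degreewise split epimorphism of K-injective complexes is K-injective
-/

set_option autoImplicit false
set_option linter.unusedSectionVars false

universe v u

open CategoryTheory Limits

namespace Groth.Agent.H33.FilInj

variable {A : Type u} [Category.{v} A] [Abelian A]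

lemma epi_of_degreewise_section {X Y : CochainComplex A ℤ} (g : X ⟶ Y)
    (hg : ∀ n, ∃ s : Y.X n ⟶ X.X n, s ≫ g.f n = 𝟙 _) : Epi g := by
  have : ∀ n, Epi (g.f n) := fun n => by
    obtain ⟨s, hs⟩ := hg n
    exact epi_of_epi_fac hs
  exact HomologicalComplex.epi_of_epi_f g this

/-- The short complex `ker g ⟶ X ⟶ Y`. -/
noncomputable abbrev kerSc {X Y : CochainComplex A ℤ} (g : X ⟶ Y) :
    ShortComplex (CochainComplex A ℤ) :=
  ShortComplex.mk (kernel.ι g) g (kernel.condition g)

lemma kerSc_shortExact {X Y : CochainComplex A ℤ} (g : X ⟶ Y) [Epi g] :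
    (kerSc g).ShortExact where
  exact := ShortComplex.exact_of_f_is_kernel _ (kernelIsKernel g)

/-- Degreewise splittings of `ker g ⟶ X ⟶ Y`. -/
noncomputable def kerScSplitting {X Y : CochainComplex A ℤ} (g : X ⟶ Y) [Epi g]
    (hg : ∀ n, ∃ s : Y.X n ⟶ X.X n, s ≫ g.f n = 𝟙 _) (n : ℤ) :
    ((kerSc g).map (HomologicalComplex.eval A (ComplexShape.up ℤ) n)).Splitting :=
  ShortComplex.Splitting.ofExactOfSection _
    ((kerSc_shortExact g).map_of_exact (HomologicalComplex.eval A (ComplexShape.up ℤ) n)).exact
    (hg n).choose (hg n).choose_spec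
    ((kerSc_shortExact g).map_of_exact (HomologicalComplex.eval A (ComplexShape.up ℤ) n)).mono_f

lemma isKInjective_kernel_of_degreewise_split {X Y : CochainComplex A ℤ} (g : X ⟶ Y)
    [X.IsKInjective] [Y.IsKInjective] (hg : ∀ n, ∃ s : Y.X n ⟶ X.X n, s ≫ g.f n = 𝟙 _) :
    CochainComplex.IsKInjective (kernel g) := by
  have := epi_of_degreewise_section g hg
  have hT : CochainComplex.trianglehOfDegreewiseSplit (kerSc g) (kerScSplitting g hg) ∈
      distTriang (HomotopyCategory A (ComplexShape.up ℤ)) := by
    rw [HomotopyCategory.distinguished_iff_iso_trianglehOfDegreewiseSplit]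
    exact ⟨_, _, ⟨Iso.refl _⟩⟩
  rw [CochainComplex.isKInjective_iff_rightOrthogonal]
  exact (HomotopyCategory.subcategoryAcyclic A).rightOrthogonal.ext_of_isTriangulatedClosed₁
    _ hT (CochainComplex.IsKInjective.rightOrthogonal X)
    (CochainComplex.IsKInjective.rightOrthogonal Y)

/-- The terms of the kernel of a degreewise split epimorphism from a complex with injective terms
are injective. -/
lemma injective_kernel_X_of_degreewise_split {X Y : CochainComplex A ℤ} (g : X ⟶ Y)
    (hX : ∀ n, Injective (X.X n)) (hg : ∀ n, ∃ s : Y.X n ⟶ X.X n, s ≫ g.f n = 𝟙 _) (n : ℤ) :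
    Injective ((kernel g).X n) := by
  have := epi_of_degreewise_section g hg
  have := hX n
  have σ := kerScSplitting g hg n
  let r : X.X n ⟶ (kernel g).X n := σ.r
  have h1 : (kernel.ι g).f n ≫ r = 𝟙 _ := σ.f_r
  exact ⟨fun {U V} a b _ =>
    ⟨Injective.factorThru (a ≫ (kernel.ι g).f n) b ≫ r, by
      rw [← Category.assoc, Injective.comp_factorThru, Category.assoc, h1, Category.comp_id]⟩⟩

end Groth.Agent.H33.FilInj
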