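import Groth.Agent.H33.FilInj.FunGroth
import Groth.Agent.H33.FilInj.EvalAdj
import Groth.Agent.H33.FilInj.Generic
import Groth.Agent.H33.FilInj.KInjKernel
import Groth.Agent.H33.FilInj.FilCxLemmas
import Groth.Agent.H33.FilInj.FilCxDegree
import Groth.Agent.H33.FilInj.Diagram
import Groth.Agent.H33.KInj.Main

/-!
# Filtered K-injective embeddings in Grothendieck abelian categories
-/

set_option autoImplicit false
set_option linter.unusedSectionVars false

universe v u

open CategoryTheory Limits SpSeq Opposite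

namespace Groth.Agent.H33.FilInj

variable {A : Type u} [Category.{v} A] [Abelian A]

lemma isIso_cokernel_π_of_eq_zero {X Y : A} (f : X ⟶ Y) (hf : f = 0) : IsIso (cokernel.π f) := by
  subst hf
  infer_instance

section

variable (K : FilCx A)

/-- The antitone family of subcomplexes `F^p K` (`p ∈ ℤ`), `F^∞ K = 0`. -/
noncomputable def filFam : Idx.{v} → Subobject K.obj
  | Idx.fin p => K.fil p
  | Idx.top => ⊥

lemma filFam_antitone : Antitone (filFam K) := by
  intro a b h
  cases b with
  | top => exact bot_le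
  | fin q =>
    cases a with
    | top => exact absurd h (Idx.not_top_le_fin q)
    | fin p => exact K.anti (Idx.fin_le_fin.1 h)

/-- The diagram of quotients `K / F^p K` (`p ∈ ℤ ∪ {∞}`). -/
noncomputable abbrev quotDiagram : Idx.{v}ᵒᵖ ⥤ CochainComplex A ℤ :=
  quotFunctor (filFam K) (filFam_antitone K)

end

section

variable (K : FilCx A) {I : CochainComplex (Idx.{v}ᵒᵖ ⥤ A) ℤ}
  (m : ∀ a : Idx.{v}ᵒᵖ, (quotDiagram K).obj a ⟶ evCx I a)

/-- The comparison map at `∞`, from `K` itself. -/
noncomputable def mTop : K.obj ⟶ evCx I (op Idx.top) :=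
  cokernel.π (⊥ : Subobject K.obj).arrow ≫ m (op Idx.top)

/-- The comparison map at `p`. -/
noncomputable def mFin (p : ℤ) : K.quot p ⟶ evCx I (op (Idx.fin p)) := m (op (Idx.fin p))

lemma mTop_res
    (hm_nat : ∀ {a b : Idx.{v}ᵒᵖ} (f : a ⟶ b),
      (quotDiagram K).map f ≫ m b = m a ≫ resCx I f) (p : ℤ) :
    mTop K m ≫ resCx I (Idx.topHom (Idx.fin p)) =
      cokernel.π (K.fil p).arrow ≫ mFin K m p := by
  have h1 := hm_nat (Idx.topHom (Idx.fin p))
  have h2 : cokernel.π (⊥ : Subobject K.obj).arrow ≫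
      (quotDiagram K).map (Idx.topHom (Idx.fin p)) = cokernel.π (K.fil p).arrow :=
    π_quotFunctor_map (filFam K) (filFam_antitone K) (Idx.topHom (Idx.fin p))
  exact (Category.assoc _ _ _).trans ((congrArg (fun t =>
    cokernel.π (⊥ : Subobject K.obj).arrow ≫ t) h1.symm).trans
      ((Category.assoc _ _ _).symm.trans (congrArg (fun t => t ≫ m (op (Idx.fin p))) h2)))

lemma quasiIso_mTop (hm : ∀ a, QuasiIso (m a)) : QuasiIso (mTop K m) := by
  have hbot : IsIso (cokernel.π (⊥ : Subobject K.obj).arrow) :=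
    isIso_cokernel_π_of_eq_zero _ Subobject.bot_arrow
  have h : QuasiIso (m (op Idx.top)) := hm _
  have h' : QuasiIso (cokernel.π (⊥ : Subobject K.obj).arrow) := inferInstance
  exact quasiIso_comp (hφ := h') (hφ' := h) (cokernel.π (⊥ : Subobject K.obj).arrow)
    (m (op Idx.top))

lemma quasiIso_mFin (hm : ∀ a, QuasiIso (m a)) (p : ℤ) : QuasiIso (mFin K m p) := hm _

end

variable [IsGrothendieckAbelian.{v} A]

/-- The data extracted from a K-injective resolution of the diagram of quotients. -/
theorem exists_filtered_kInjective_embedding (K : FilCx A) :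
    ∃ (J : FilCx A) (j : K ⟶ J),
      (∀ n p : ℤ, Injective (J.obj.X n) ∧ Injective ((J.XFil n).step p) ∧
        Injective ((J.XFil n).quot p) ∧
        ∀ (p' : ℤ) (h : p ≤ p'), Injective (cokernel ((J.XFil n).stepLE h))) ∧
      (CochainComplex.IsKInjective J.obj ∧ ∀ p : ℤ, CochainComplex.IsKInjective (J.step p) ∧
        CochainComplex.IsKInjective (J.quot p) ∧
        ∀ (p' : ℤ) (h : p ≤ p'), CochainComplex.IsKInjective (cokernel (J.stepLE h))) ∧
      QuasiIso j.hom ∧
      (∀ p : ℤ, ∃ jp : K.step p ⟶ J.step p,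
        jp ≫ (J.fil p).arrow = (K.fil p).arrow ≫ j.hom ∧ QuasiIso jp ∧
        (∀ (p' : ℤ) (h : p ≤ p'), ∃ (jp' : K.step p' ⟶ J.step p')
          (jg : cokernel (K.stepLE h) ⟶ cokernel (J.stepLE h)),
          jp' ≫ (J.fil p').arrow = (K.fil p').arrow ≫ j.hom ∧
          jp' ≫ J.stepLE h = K.stepLE h ≫ jp ∧
          cokernel.π (K.stepLE h) ≫ jg = jp ≫ cokernel.π (J.stepLE h) ∧ QuasiIso jg)) ∧
      (∀ p : ℤ, ∃ jq : K.quot p ⟶ J.quot p,
        cokernel.π (K.fil p).arrow ≫ jq = j.hom ≫ cokernel.π (J.fil p).arrow ∧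
          QuasiIso jq) := by
  let M := quotDiagram K
  obtain ⟨I, φ, hIK, hφ, -, hIinj⟩ := KInj.exists_kInjective_resolution (cxOfFunctor M)
  -- the system of quotients
  have hsec : ∀ {a b : Idx.{v}ᵒᵖ} (f : a ⟶ b) (n : ℤ),
      ∃ s : (evCx I b).X n ⟶ (evCx I a).X n, s ≫ (resCx I f).f n = 𝟙 _ := fun f n => by
    have := hIinj n
    exact exists_section_of_injective (I.X n) f
  let s : QuotSystem (evCx I (op Idx.top)) :=
    { Q := fun p => evCx I (op (Idx.fin p))
      π := fun p => resCx I (Idx.topHom (Idx.fin p))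
      epi_π := fun p => epi_of_degreewise_section _ (hsec _)
      ρ := fun {p p'} h => resCx I (Idx.finHom h)
      π_ρ := fun {p p'} h => by
        rw [← resCx_comp]
        congr 1 }
  -- the comparison maps
  let m : ∀ a : Idx.{v}ᵒᵖ, M.obj a ⟶ evCx I a := fun a => (evCxOfFunctorIso M a).inv ≫ evMap φ a
  have hm : ∀ a, QuasiIso (m a) := fun a => by
    have := quasiIso_evMap φ a
    dsimp only [m]
    infer_instance
  have hm_nat : ∀ {a b : Idx.{v}ᵒᵖ} (f : a ⟶ b), M.map f ≫ m b = m a ≫ resCx I f := by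
    intro a b f
    dsimp only [m]
    rw [Category.assoc, evMap_resCx, ← Category.assoc, ← Category.assoc]
    congr 1
    rw [← cancel_mono (evCxOfFunctorIso M b).hom, Category.assoc, Iso.inv_hom_id,
      Category.comp_id, Category.assoc, ← evCxOfFunctorIso_hom_naturality, Iso.inv_hom_id_assoc]
  let j₀ : K.obj ⟶ evCx I (op Idx.top) := mTop K m
  have hj₀ : QuasiIso j₀ := quasiIso_mTop K m hm
  have hj₀π : ∀ p : ℤ, j₀ ≫ s.π p = cokernel.π (K.fil p).arrow ≫ mFin K m p :=
    fun p => mTop_res K m hm_nat p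
  let J : FilCx A := s.filObj
  let j : K ⟶ J :=
    { hom := j₀
      compat := fun p => by
        have hF : (J.fil p).Factors ((K.fil p).arrow ≫ j₀) := by
          apply kernelSubobject_factors
          rw [Category.assoc, hj₀π, cokernel.condition_assoc, zero_comp]
        exact Subobject.le_of_comm
          (Subobject.factorThru _ _ (pullback_factors j₀ (J.fil p) (K.fil p).arrow hF))
          (Subobject.factorThru_arrow _ _ _) }
  have hq : ∀ p : ℤ, QuasiIso (quotMapOf j p) := by
    intro p
    have h1 : quotMapOf j p = mFin K m p ≫ (s.quotIso p).inv := by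
      symm
      apply quotMapOf_unique
      rw [← Category.assoc, ← hj₀π, Category.assoc, s.π_quotIso_inv]
    have := quasiIso_mFin K m hm p
    rw [h1]
    infer_instance
  have hIX : ∀ a : Idx.{v}ᵒᵖ, CochainComplex.IsKInjective (evCx I a) := fun a =>
    isKInjective_eval I a
  have hIXinj : ∀ (a : Idx.{v}ᵒᵖ) (n : ℤ), Injective ((evCx I a).X n) := fun a n => by
    have := hIinj n
    exact injective_obj (I.X n) a
  have hkerπ : ∀ p : ℤ, CochainComplex.IsKInjective (kernel (s.π p)) := fun p => by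
    have := hIX (op Idx.top)
    have := hIX (op (Idx.fin p))
    exact isKInjective_kernel_of_degreewise_split (s.π p) (hsec _)
  have hkerρ : ∀ {p p' : ℤ} (h : p ≤ p'), CochainComplex.IsKInjective (kernel (s.ρ h)) :=
    fun {p p'} h => by
      have := hIX (op (Idx.fin p))
      have := hIX (op (Idx.fin p'))
      exact isKInjective_kernel_of_degreewise_split (s.ρ h) (hsec _)
  refine ⟨J, j, ?_, ?_, hj₀, ?_⟩
  · intro n p
    refine ⟨hIXinj _ n, ?_, ?_, ?_⟩
    · have := injective_kernel_X_of_degreewise_split (s.π p) (hIXinj _) (hsec _) n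
      exact Injective.of_iso ((xFilStepIso J n p) ≪≫
        (HomologicalComplex.eval A (ComplexShape.up ℤ) n).mapIso (s.stepIso p)).symm this
    · have := hIXinj (op (Idx.fin p)) n
      exact Injective.of_iso ((xFilQuotIso J n p) ≪≫
        (HomologicalComplex.eval A (ComplexShape.up ℤ) n).mapIso (s.quotIso p)).symm this
    · intro p' h
      have := injective_kernel_X_of_degreewise_split (s.ρ h) (hIXinj _) (hsec _) n
      exact Injective.of_iso ((xFilGrIso J n h) ≪≫
        (HomologicalComplex.eval A (ComplexShape.up ℤ) n).mapIso (s.grIso h)).symm this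
  · refine ⟨hIX _, fun p => ⟨?_, ?_, ?_⟩⟩
    · have := hkerπ p
      exact CochainComplex.isKInjective_of_iso (s.stepIso p).symm
    · have := hIX (op (Idx.fin p))
      exact CochainComplex.isKInjective_of_iso (s.quotIso p).symm
    · intro p' h
      have := hkerρ h
      exact CochainComplex.isKInjective_of_iso (s.grIso h).symm
  · exact filtered_quasiIso_of_quot j hj₀ hq

end Groth.Agent.H33.FilInj
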